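import Mathlib

/-!
An ideal of `A ⊗ K` contained in no minimal prime contains a polynomial in a transcendence basis of
`K` with a coefficient outside a given minimal prime of `A`.
-/

set_option autoImplicit false
set_option backward.isDefEq.respectTransparency false

universe u

open TensorProduct

noncomputable section

namespace Groth.Agent.DensePts

variable (k A K : Type u) [Field k] [CommRing A] [Algebra k A] [Field K] [Algebra k K]

/-- Polynomials in given elements of `K` with coefficients in `A`. -/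
def polyMap {ι : Type u} (s : ι → K) : MvPolynomial ι A →ₐ[A] A ⊗[k] K :=
  MvPolynomial.aeval fun i => (1 : A) ⊗ₜ[k] s i

theorem polyMap_map {ι : Type u} (s : ι → K) (g : MvPolynomial ι k) :
    polyMap k A K s (MvPolynomial.map (algebraMap k A) g) = (1 : A) ⊗ₜ[k] MvPolynomial.aeval s g := by
  induction g using MvPolynomial.induction_on with
  | C c =>
    rw [MvPolynomial.map_C, ← MvPolynomial.algebraMap_eq, AlgHom.commutes, MvPolynomial.aeval_C,
      Algebra.TensorProduct.algebraMap_apply, Algebra.algebraMap_self, RingHom.id_apply,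
      Algebra.algebraMap_eq_smul_one, Algebra.algebraMap_eq_smul_one, TensorProduct.smul_tmul]
  | add p q hp hq => simp [map_add, hp, hq, TensorProduct.tmul_add]
  | mul_X p i hp =>
    rw [map_mul, map_mul, hp, MvPolynomial.map_X, map_mul, MvPolynomial.aeval_X]
    simp [polyMap]

/-- The key algebraic fact. -/
theorem exists_coeff {ι : Type u} (s : ι → K) (hs : IsTranscendenceBasis k s) (I : Ideal (A ⊗[k] K))
    (hI : ∀ Q ∈ minimalPrimes (A ⊗[k] K), ¬ I ≤ Q) (p : Ideal A) (hp : p ∈ minimalPrimes A) :
    ∃ G : MvPolynomial ι A, polyMap k A K s G ∈ I ∧ ∃ m, G.coeff m ∉ p := by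
  classical
  haveI := hp.1.1
  by_contra hcon
  push Not at hcon
  let T : Submonoid (MvPolynomial ι A) :=
    (nonZeroDivisors (MvPolynomial ι k)).map (MvPolynomial.map (algebraMap k A) : MvPolynomial ι k →+* MvPolynomial ι A)
  have hT : ∀ t : T, IsUnit (polyMap k A K s t.1) := by
    rintro ⟨_, g, hg, rfl⟩
    rw [polyMap_map]
    have hne : MvPolynomial.aeval s g ≠ 0 := fun h =>
      nonZeroDivisors.ne_zero hg (hs.1 (h.trans (map_zero _).symm))
    exact (isUnit_iff_ne_zero.2 hne).map (Algebra.TensorProduct.includeRight : K →ₐ[k] A ⊗[k] K)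
  let BT := Localization T
  let lam : BT →+* A ⊗[k] K := IsLocalization.lift (M := T) (g := (polyMap k A K s).toRingHom) hT
  letI : Algebra BT (A ⊗[k] K) := lam.toAlgebra
  have hlam : ∀ G, algebraMap BT (A ⊗[k] K) (algebraMap _ BT G) = polyMap k A K s G := fun G =>
    IsLocalization.lift_eq _ G
  -- integrality
  let e : MvPolynomial ι k →+* Algebra.adjoin k (Set.range s) :=
    (MvPolynomial.aeval s).toRingHom.codRestrict (Algebra.adjoin k (Set.range s)).toSubring fun g => by
      show MvPolynomial.aeval s g ∈ _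
      rw [Algebra.adjoin_range_eq_range_aeval]
      exact ⟨g, rfl⟩
  letI : Algebra (MvPolynomial ι k) K := (MvPolynomial.aeval s).toRingHom.toAlgebra
  haveI : Algebra.IsIntegral BT (A ⊗[k] K) := ⟨fun z => by
    induction z using TensorProduct.induction_on with
    | zero => exact isIntegral_zero
    | add a b ha hb => exact ha.add hb
    | tmul a κ =>
      have h1 : a ⊗ₜ[k] κ = algebraMap BT (A ⊗[k] K) (algebraMap (MvPolynomial ι A) BT (MvPolynomial.C a)) * ((1 : A) ⊗ₜ[k] κ) := by
        rw [hlam]; simp [polyMap]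
      rw [h1]
      refine isIntegral_algebraMap.mul ?_
      have halg : IsAlgebraic (MvPolynomial ι k) κ := by
        refine (hs.isAlgebraic.isAlgebraic κ).of_ringHom_of_comp_eq e (RingHom.id K) ?_ (fun _ _ h => h) ?_
        · rintro ⟨y, hy⟩
          rw [Algebra.adjoin_range_eq_range_aeval, AlgHom.mem_range] at hy
          obtain ⟨g, hg⟩ := hy
          exact ⟨g, Subtype.ext hg⟩
        · ext g <;> rfl
      obtain ⟨P, hP0, hP⟩ := halg
      let ε : MvPolynomial ι k →+* BT :=
        (algebraMap (MvPolynomial ι A) BT).comp (MvPolynomial.map (algebraMap k A))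
      have hε : (algebraMap BT (A ⊗[k] K)).comp ε =
          (Algebra.TensorProduct.includeRight : K →ₐ[k] A ⊗[k] K).toRingHom.comp
            (algebraMap (MvPolynomial ι k) K) := RingHom.ext fun g => (hlam _).trans (polyMap_map k A K s g)
      have hu : IsUnit (ε P.leadingCoeff) :=
        IsLocalization.map_units BT (⟨_, P.leadingCoeff,
          mem_nonZeroDivisors_of_ne_zero (Polynomial.leadingCoeff_ne_zero.2 hP0), rfl⟩ : T)
      have hroot : Polynomial.aeval ((1 : A) ⊗ₜ[k] κ) (P.map ε) = 0 := by
        rw [Polynomial.aeval_def, Polynomial.eval₂_map, hε]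
        have := congrArg (Algebra.TensorProduct.includeRight : K →ₐ[k] A ⊗[k] K).toRingHom hP
        rwa [map_zero, Polynomial.aeval_def, Polynomial.hom_eval₂] at this
      rcases subsingleton_or_nontrivial BT with hsub | hnt
      · exact ⟨1, Polynomial.monic_one, by
          have : (1 : A ⊗[k] K) = 0 := by
            rw [← map_one (algebraMap BT (A ⊗[k] K)), Subsingleton.elim (1 : BT) 0, map_zero]
          rw [Polynomial.eval₂_one, this]⟩
      refine ⟨Polynomial.C (hu.unit⁻¹.val) * P.map ε, ?_, ?_⟩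
      · refine Polynomial.monic_C_mul_of_mul_leadingCoeff_eq_one ?_
        rw [Polynomial.leadingCoeff_map_of_leadingCoeff_ne_zero _ hu.ne_zero]
        exact hu.val_inv_mul
      · rw [Polynomial.eval₂_mul, ← Polynomial.aeval_def, ← Polynomial.aeval_def, hroot, mul_zero]⟩
  -- the prime of `B` over `p`
  let P : Ideal (MvPolynomial ι A) := RingHom.ker (MvPolynomial.map (Ideal.Quotient.mk p) : MvPolynomial ι A →+* _)
  haveI hPprime : P.IsPrime := RingHom.ker_isPrime _
  have hPmem : ∀ G, G ∈ P ↔ ∀ m, G.coeff m ∈ p := fun G => by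
    simp only [P, RingHom.mem_ker, MvPolynomial.ext_iff, MvPolynomial.coeff_map, MvPolynomial.coeff_zero,
      Ideal.Quotient.eq_zero_iff_mem]
  have hdisj : Disjoint (T : Set (MvPolynomial ι A)) (P : Set (MvPolynomial ι A)) := by
    rw [Set.disjoint_left]
    rintro _ ⟨g, hg, rfl⟩ hgP
    refine nonZeroDivisors.ne_zero hg (MvPolynomial.map_injective ((Ideal.Quotient.mk p).comp (algebraMap k A))
      (RingHom.injective _) ?_)
    rw [map_zero, ← MvPolynomial.map_map]
    exact hgP
  haveI hPT : (P.map (algebraMap _ BT)).IsPrime :=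
    IsLocalization.isPrime_of_isPrime_disjoint T BT P hPprime hdisj
  have hPTc : (P.map (algebraMap _ BT)).comap (algebraMap _ BT) = P :=
    IsLocalization.comap_map_of_isPrime_disjoint T BT hPprime hdisj
  have hPTmin : ∀ q : Ideal BT, q.IsPrime → q ≤ P.map (algebraMap _ BT) → P.map (algebraMap _ BT) ≤ q := fun q hq hle => by
    refine Ideal.map_le_iff_le_comap.2 fun G hG => ?_
    have hqP : q.comap (algebraMap _ BT) ≤ P := hPTc ▸ Ideal.comap_mono hle
    have hpq : p ≤ (q.comap (algebraMap (MvPolynomial ι A) BT)).comap MvPolynomial.C :=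
      hp.2 ⟨Ideal.IsPrime.comap _, bot_le⟩ fun a ha => by
        have := (hPmem _).1 (hqP ha) 0
        simpa using this
    rw [G.as_sum]
    refine Ideal.sum_mem _ fun m _ => ?_
    rw [show MvPolynomial.monomial m (G.coeff m) = MvPolynomial.C (G.coeff m) * MvPolynomial.monomial m 1 by
      rw [MvPolynomial.C_mul_monomial, mul_one]]
    exact Ideal.mul_mem_right _ _ (hpq ((hPmem G).1 hG m))
  have hle : I.comap (algebraMap BT (A ⊗[k] K)) ≤ P.map (algebraMap _ BT) := fun z hz => by
    obtain ⟨⟨G, t⟩, hGt⟩ := IsLocalization.surj T z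
    have hG : G ∈ P := (hPmem G).2 (hcon G (by
      rw [← hlam, ← hGt, map_mul]
      exact I.mul_mem_right _ hz))
    have := Ideal.mem_map_of_mem (algebraMap _ BT) hG
    rw [← hGt] at this
    exact (Ideal.mul_unit_mem_iff_mem _ (IsLocalization.map_units BT t)).1 this
  obtain ⟨Q, hIQ, hQ, hQc⟩ := Ideal.exists_ideal_over_prime_of_isIntegral (P.map (algebraMap _ BT)) I hle
  obtain ⟨Q₀, hQ₀, hle₀⟩ := Ideal.exists_minimalPrimes_le (bot_le : (⊥ : Ideal (A ⊗[k] K)) ≤ Q)
  refine hI Q₀ hQ₀ ?_
  by_cases h : Q₀ = Q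
  · exact h ▸ hIQ
  · haveI := hQ₀.1.1
    have hlt := Ideal.IsIntegral.comap_lt_comap (R := BT) (lt_of_le_of_ne hle₀ h)
    rw [hQc] at hlt
    exact absurd (hPTmin _ (Ideal.IsPrime.comap _) hlt.le) hlt.not_ge

end Groth.Agent.DensePts
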